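import Groth.Agent.AICVanishLib.Split

/-!
# Locally constant functions with values in a finite group on closed subsets of `Spec R`
-/

set_option autoImplicit false
set_option linter.style.haveILetI false

universe u v

open Polynomial Finset PrimeSpectrum

noncomputable section

namespace Groth.Agent.AICVanishLib

variable {R : Type u} [CommRing R]

/-- Congruence splitting of integer valued functions modulo `n`. -/
def SplitsMod (A B : Set (PrimeSpectrum R)) (n : ℕ) : Prop :=
  ∀ c : LocallyConstant ↥(A ∩ B) ℤ, ∃ (bA : LocallyConstant A ℤ) (bB : LocallyConstant B ℤ),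
    ∀ p : ↥(A ∩ B), (n : ℤ) ∣ bB ⟨p.1, p.2.2⟩ - bA ⟨p.1, p.2.1⟩ - c p

theorem lc_sum_apply {X G ι : Type*} [TopologicalSpace X] [AddCommGroup G] (s : Finset ι) (f : ι → LocallyConstant X G)
    (x : X) : (∑ i ∈ s, f i) x = ∑ i ∈ s, f i x :=
  map_sum (⟨⟨fun g => g x, rfl⟩, fun _ _ => rfl⟩ : LocallyConstant X G →+ G) f s

theorem sum_indicator {X G : Type*} [TopologicalSpace X] [AddCommGroup G] [DecidableEq G] (c : LocallyConstant X G)
    (s : Finset G) (hs : ∀ x, c x ∈ s) (g : G → G) (x : X) :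
    ∑ v ∈ s, (c ⁻¹' {v}).indicator (1 : X → ℤ) x • g v = g (c x) := by
  rw [Finset.sum_eq_single (c x)]
  · simp
  · intro v _ hv
    have h : x ∉ c ⁻¹' {v} := fun h => hv (h : c x = v).symm
    rw [Set.indicator_of_notMem h, zero_smul]
  · exact fun h => absurd (hs x) h

theorem splitsMod_prime (hR : ∀ f : R[X], f.Monic → 0 < f.natDegree → ∃ r : R, f.eval r = 0)
    (I J : Ideal R) {ℓ : ℕ} (hℓ : ℓ.Prime) : SplitsMod (zeroLocus (I : Set R)) (zeroLocus (J : Set R)) ℓ := by
  classical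
  intro c
  have hcl : IsClosed (zeroLocus (I : Set R) ∩ zeroLocus (J : Set R)) := (isClosed_zeroLocus _).inter (isClosed_zeroLocus _)
  haveI := isCompact_iff_compactSpace.1 hcl.isCompact
  let ι : ↥(zeroLocus ((I ⊔ J : Ideal R) : Set R)) ≃ₜ ↥(zeroLocus (I : Set R) ∩ zeroLocus (J : Set R)) :=
    Homeomorph.setCongr (zeroLocus_sup I J)
  have hW : ∀ v : ℤ, IsClopen (ι ⁻¹' (c ⁻¹' {v})) := fun v => (c.isLocallyConstant.isClopen_fiber v).preimage ι.continuous
  choose kA kB hk using fun v : ℤ => exists_indicator_modEq_prime hR hℓ I J (hW v)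
  let s := c.range_finite.toFinset
  refine ⟨∑ v ∈ s, v • kA v, ∑ v ∈ s, v • kB v, fun p => ?_⟩
  have hc := sum_indicator c s (fun x => c.range_finite.mem_toFinset.2 ⟨x, rfl⟩) id p
  simp only [lc_sum_apply, LocallyConstant.coe_smul, Pi.smul_apply, smul_eq_mul, id_eq] at hc ⊢
  rw [← hc, ← Finset.sum_sub_distrib, ← Finset.sum_sub_distrib]
  refine Finset.dvd_sum fun v _ => ?_
  have h := hk v (ι.symm p) p.2.1 p.2.2
  have hind : (ι ⁻¹' (c ⁻¹' {v})).indicator 1 (ι.symm p) = (c ⁻¹' {v}).indicator (1 : ↥(zeroLocus (I : Set R) ∩ zeroLocus (J : Set R)) → ℤ) p := by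
    simp only [Set.indicator_apply, Set.mem_preimage, Homeomorph.apply_symm_apply, Pi.one_apply]
  rw [hind] at h
  have h' := dvd_mul_of_dvd_right h v
  refine h'.trans (dvd_of_eq ?_)
  show v * (kB v ⟨p.1, p.2.2⟩ - kA v ⟨p.1, p.2.1⟩ - _) = _
  ring

theorem splitsMod_mul {A B : Set (PrimeSpectrum R)} {m n : ℕ} (hm : SplitsMod A B m) (hn : SplitsMod A B n) :
    SplitsMod A B (m * n) := by
  intro c
  obtain ⟨bA, bB, hb⟩ := hm c
  let d : LocallyConstant ↥(A ∩ B) ℤ :=
    (c - (bB.comap ⟨Set.inclusion (t := B) Set.inter_subset_right, continuous_inclusion _⟩ -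
      bA.comap ⟨Set.inclusion (t := A) Set.inter_subset_left, continuous_inclusion _⟩)).map (· / (m : ℤ))
  obtain ⟨dA, dB, hd⟩ := hn d
  refine ⟨bA + (m : ℤ) • dA, bB + (m : ℤ) • dB, fun p => ?_⟩
  have h2 := mul_dvd_mul_left (m : ℤ) (hd p)
  have h1 : (m : ℤ) * d p = c p - (bB ⟨p.1, p.2.2⟩ - bA ⟨p.1, p.2.1⟩) :=
    Int.mul_ediv_cancel' (dvd_sub_comm.1 (hb p))
  simp only [LocallyConstant.coe_add, LocallyConstant.coe_smul, Pi.add_apply, Pi.smul_apply, smul_eq_mul, Nat.cast_mul]
  rw [mul_sub, h1] at h2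
  refine h2.trans (dvd_of_eq ?_)
  ring

theorem splitsMod (hR : ∀ f : R[X], f.Monic → 0 < f.natDegree → ∃ r : R, f.eval r = 0) (I J : Ideal R) (n : ℕ) (hn : 0 < n) :
    SplitsMod (zeroLocus (I : Set R)) (zeroLocus (J : Set R)) n := by
  induction n using Nat.strong_induction_on with
  | _ n ih =>
    rcases eq_or_ne n 1 with rfl | h1
    · exact fun c => ⟨LocallyConstant.const _ 0, LocallyConstant.const _ 0, fun p => by simp⟩
    obtain ⟨ℓ, hℓ, m, rfl⟩ := Nat.exists_prime_and_dvd h1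
    have hm : 0 < m := Nat.pos_of_mul_pos_left hn
    exact splitsMod_mul (splitsMod_prime hR I J hℓ) (ih m (lt_mul_of_one_lt_left hm hℓ.one_lt) hm)

/-- A locally constant function on the intersection of two closed sets, with values in a finite group,
is a difference of locally constant functions on the two sets. -/
theorem exists_sub_eq (hR : ∀ f : R[X], f.Monic → 0 < f.natDegree → ∃ r : R, f.eval r = 0)
    {A B : Set (PrimeSpectrum R)} (hA : IsClosed A) (hB : IsClosed B) {G : Type v} [AddCommGroup G] [Finite G]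
    (c : LocallyConstant ↥(A ∩ B) G) :
    ∃ (bA : LocallyConstant A G) (bB : LocallyConstant B G),
      ∀ p : ↥(A ∩ B), c p = bB ⟨p.1, p.2.2⟩ - bA ⟨p.1, p.2.1⟩ := by
  classical
  obtain ⟨I, rfl⟩ := (isClosed_iff_zeroLocus_ideal _).1 hA
  obtain ⟨J, rfl⟩ := (isClosed_iff_zeroLocus_ideal _).1 hB
  haveI := Fintype.ofFinite G
  have hn : ∀ g : G, Fintype.card G • g = 0 := fun g => card_nsmul_eq_zero
  choose kA kB hk using fun g : G => splitsMod hR I J (Fintype.card G) Fintype.card_pos (c.map fun x => if x = g then 1 else 0)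
  refine ⟨∑ g, (kA g).map (· • g), ∑ g, (kB g).map (· • g), fun p => ?_⟩
  simp only [lc_sum_apply, LocallyConstant.map_apply, Function.comp_apply]
  rw [← Finset.sum_sub_distrib]
  have : ∀ g, kB g ⟨p.1, p.2.2⟩ • g - kA g ⟨p.1, p.2.1⟩ • g = (if c p = g then (1 : ℤ) else 0) • g := fun g => by
    obtain ⟨t, ht⟩ := hk g p
    simp only [LocallyConstant.map_apply, Function.comp_apply] at ht
    rw [← sub_smul, ← sub_eq_zero, ← sub_smul, ht, mul_smul, natCast_zsmul, hn]
  rw [Finset.sum_congr rfl fun g _ => this g, Finset.sum_eq_single (c p) (fun g _ h => by rw [if_neg h.symm, zero_smul]) (by simp)]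
  simp

end Groth.Agent.AICVanishLib
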