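import Mathlib

/-!
# Identities between roots of unity used to split clopen sets over rings with roots

For a prime `ℓ` we construct in a cyclotomic domain, and transport to every ring with roots,
an auxiliary family of polynomials relating `ℓ`-th roots of unity and `M`-th roots of unity
with `M` prime to `ℓ`.
-/

set_option autoImplicit false
set_option linter.style.haveILetI false

universe u v

open Polynomial Finset

noncomputable section

namespace Groth.Agent.AICVanishLib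

/-- The geometric sums. -/
def geo {R : Type*} [CommRing R] (ζ : R) (n : ℕ) : R := ∑ i ∈ range n, ζ ^ i

theorem geo_add {R : Type*} [CommRing R] (ζ : R) (m n : ℕ) : geo ζ (m + n) = geo ζ m + ζ ^ m * geo ζ n := by
  simp only [geo, sum_range_add, mul_sum, ← pow_add]

theorem map_geo {R S : Type*} [CommRing R] [CommRing S] (φ : R →+* S) (ζ : R) (n : ℕ) :
    φ (geo ζ n) = geo (φ ζ) n := by
  simp only [geo, map_sum, map_pow]

theorem mul_geo {R : Type*} [CommRing R] (ζ : R) (n : ℕ) : (ζ - 1) * geo ζ n = ζ ^ n - 1 :=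
  mul_geom_sum ζ n

/-- The data: roots of unity `ζ` and two monic polynomials congruent modulo `ζ - 1`. -/
structure Kit (R : Type u) [CommRing R] (ℓ : ℕ) where
  M : ℕ
  coprime : M.Coprime ℓ
  ζ : R
  pow_eq : ζ ^ ℓ = 1
  geo_eq : geo ζ ℓ = 0
  isUnit_geo : ∀ c, c.Coprime ℓ → IsUnit (geo ζ c)
  h₀ : R[X]
  h₁ : R[X]
  D : R[X]
  Q : R[X]
  monic₀ : h₀.Monic
  monic₁ : h₁.Monic
  deg₀ : h₀.natDegree = ℓ
  deg₁ : h₁.natDegree = ℓ
  coeff_zero : h₁.coeff 0 = h₀.coeff 0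
  isUnit_coeff_zero : IsUnit (h₀.coeff 0)
  sub_eq : h₁ - h₀ = C (ζ - 1) * D
  mul_eq : h₀ * Q = X ^ M - 1
  dvd : h₁ ∣ -D * Q - C (geo ζ M)

/-- Base change of the data. -/
def Kit.map {R : Type u} {S : Type v} [CommRing R] [CommRing S] [Nontrivial S] {ℓ : ℕ} (k : Kit R ℓ) (φ : R →+* S) : Kit S ℓ where
  M := k.M
  coprime := k.coprime
  ζ := φ k.ζ
  pow_eq := by rw [← map_pow, k.pow_eq, map_one]
  geo_eq := by rw [← map_geo, k.geo_eq, map_zero]
  isUnit_geo c hc := map_geo φ k.ζ c ▸ (k.isUnit_geo c hc).map φ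
  h₀ := k.h₀.map φ
  h₁ := k.h₁.map φ
  D := k.D.map φ
  Q := k.Q.map φ
  monic₀ := k.monic₀.map φ
  monic₁ := k.monic₁.map φ
  deg₀ := by rw [k.monic₀.natDegree_map, k.deg₀]
  deg₁ := by rw [k.monic₁.natDegree_map, k.deg₁]
  coeff_zero := by rw [coeff_map, coeff_map, k.coeff_zero]
  isUnit_coeff_zero := by rw [coeff_map]; exact k.isUnit_coeff_zero.map φ
  sub_eq := by rw [← Polynomial.map_sub, k.sub_eq, Polynomial.map_mul, map_C, map_sub, map_one]
  mul_eq := by rw [← Polynomial.map_mul, k.mul_eq, Polynomial.map_sub, Polynomial.map_pow, map_X, Polynomial.map_one]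
  dvd := by
    have := Polynomial.map_dvd φ k.dvd
    rwa [Polynomial.map_sub, Polynomial.map_mul, Polynomial.map_neg, map_C, map_geo] at this

section Universal

variable {U : Type u} [CommRing U] [IsDomain U]

omit [IsDomain U] in
theorem coeff_zero_prod (s : Finset ℕ) (f : ℕ → U) : (∏ i ∈ s, (X - C (f i))).coeff 0 = ∏ i ∈ s, -f i := by
  rw [coeff_zero_eq_eval_zero, eval_prod]
  exact prod_congr rfl fun i _ => by simp

omit [IsDomain U] in
theorem C_dvd_prod_sub_prod (s : Finset ℕ) (f g : ℕ → U) (c : U) (h : ∀ i ∈ s, c ∣ f i - g i) :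
    C c ∣ (∏ i ∈ s, (X - C (f i))) - ∏ i ∈ s, (X - C (g i)) := by
  rw [← Ideal.mem_span_singleton, ← Ideal.Quotient.eq, map_prod, map_prod]
  refine prod_congr rfl fun i hi => ?_
  rw [Ideal.Quotient.eq, Ideal.mem_span_singleton, sub_sub_sub_cancel_left, ← C_sub]
  exact map_dvd C (by simpa using dvd_neg.2 (h i hi) : c ∣ g i - f i)

theorem exists_kit_domain {ℓ : ℕ} (hℓ : ℓ.Prime) {η : U} (hη : IsPrimitiveRoot η (ℓ * (ℓ + 1))) :
    Nonempty (Kit U ℓ) := by
  have hM : 0 < ℓ + 1 := Nat.succ_pos _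
  have hN : 0 < ℓ * (ℓ + 1) := Nat.mul_pos hℓ.pos hM
  have hcop : (ℓ + 1).Coprime ℓ := Nat.coprime_self_add_left.2 ℓ.coprime_one_left
  have hζ : IsPrimitiveRoot (η ^ (ℓ + 1)) ℓ := hη.pow hN (mul_comm _ _)
  have hω : IsPrimitiveRoot (η ^ ℓ) (ℓ + 1) := hη.pow hN rfl
  set ζ := η ^ (ℓ + 1)
  set ω := η ^ ℓ
  have hle : range ℓ ⊆ range (ℓ + 1) :=
    range_subset_range.2 (Nat.le_succ _)
  let h₀ : U[X] := ∏ i ∈ range ℓ, (X - C (ω ^ i * 1))
  let h₁ : U[X] := ∏ i ∈ range ℓ, (X - C (ω ^ i * ζ))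
  obtain ⟨D, hD⟩ : C (ζ - 1) ∣ h₁ - h₀ := C_dvd_prod_sub_prod _ _ _ _ fun i _ => ⟨ω ^ i, by ring⟩
  obtain ⟨Q, hQ⟩ : h₀ ∣ X ^ (ℓ + 1) - C (1 : U) := by
    rw [X_pow_sub_C_eq_prod hω hM (α := 1) (one_pow _)]
    exact prod_dvd_prod_of_subset _ _ _ hle
  have h₁dvd : h₁ ∣ X ^ (ℓ + 1) - C (ζ ^ (ℓ + 1)) := by
    rw [X_pow_sub_C_eq_prod hω hM (α := ζ) rfl]
    exact prod_dvd_prod_of_subset _ _ _ hle
  have hmonic₁ : h₁.Monic := monic_prod_of_monic _ _ fun i _ => monic_X_sub_C _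
  have hζ1 : ζ - 1 ≠ 0 := sub_ne_zero.2 (hζ.ne_one hℓ.one_lt)
  refine ⟨
    { M := ℓ + 1
      coprime := hcop
      ζ := ζ
      pow_eq := hζ.pow_eq_one
      geo_eq := hζ.geom_sum_eq_zero hℓ.one_lt
      isUnit_geo := fun c hc => hζ.geom_sum_isUnit hℓ.two_le hc
      h₀ := h₀
      h₁ := h₁
      D := D
      Q := Q
      monic₀ := monic_prod_of_monic _ _ fun i _ => monic_X_sub_C _
      monic₁ := hmonic₁
      deg₀ := ?_
      deg₁ := ?_
      coeff_zero := ?_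
      isUnit_coeff_zero := ?_
      sub_eq := hD
      mul_eq := by rw [← hQ, map_one]
      dvd := ?_ }⟩
  · simp only [natDegree_finsetProd_X_sub_C_eq_card, h₀, h₁, card_range]
  · simp only [natDegree_finsetProd_X_sub_C_eq_card, h₀, h₁, card_range]
  · rw [coeff_zero_prod, coeff_zero_prod]
    simp only [← neg_mul]
    rw [prod_mul_distrib, prod_const, card_range, hζ.pow_eq_one, prod_mul_distrib, prod_const, card_range, one_pow]
  · rw [coeff_zero_prod]
    exact IsUnit.prod_iff.2 fun i _ => by simpa using (hω.isUnit hM.ne').pow i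
  · have h2 : C (ζ - 1) * (-D * Q - C (geo ζ (ℓ + 1))) =
        -h₁ * Q + (X ^ (ℓ + 1) - C (ζ ^ (ℓ + 1))) := by
      rw [show C (ζ - 1) * (-D * Q - C (geo ζ (ℓ + 1))) =
        -(C (ζ - 1) * D) * Q - C (ζ - 1) * C (geo ζ (ℓ + 1)) by ring, ← hD, ← C_mul, mul_geo,
        C_sub, map_one, show -(h₁ - h₀) * Q = -h₁ * Q + h₀ * Q by ring, ← hQ, map_one]
      ring
    have h3 : h₁ ∣ C (ζ - 1) * (-D * Q - C (geo ζ (ℓ + 1))) := by
      rw [h2]; exact dvd_add (dvd_mul_of_dvd_left (dvd_neg.2 dvd_rfl) _) h₁dvd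
    rw [← modByMonic_eq_zero_iff_dvd hmonic₁] at h3 ⊢
    rw [← smul_eq_C_mul, smul_modByMonic] at h3
    exact (smul_eq_zero.1 h3).resolve_left hζ1

end Universal

/-- Every ring with roots carries the data. -/
theorem exists_kit {R : Type u} [CommRing R] [Nontrivial R]
    (hR : ∀ f : R[X], f.Monic → 0 < f.natDegree → ∃ r : R, f.eval r = 0) {ℓ : ℕ} (hℓ : ℓ.Prime) :
    Nonempty (Kit R ℓ) := by
  have hN : 0 < ℓ * (ℓ + 1) := Nat.mul_pos hℓ.pos (Nat.succ_pos _)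
  set N := ℓ * (ℓ + 1)
  haveI := AdjoinRoot.isDomain_of_prime (cyclotomic.irreducible hN).prime
  have hdeg : (cyclotomic N ℤ).degree ≠ 0 := by
    rw [degree_eq_natDegree (cyclotomic.monic _ _).ne_zero, natDegree_cyclotomic, Ne, Nat.cast_eq_zero]
    exact (Nat.totient_pos.2 hN).ne'
  haveI : CharZero (AdjoinRoot (cyclotomic N ℤ)) :=
    charZero_of_injective_ringHom (AdjoinRoot.of.injective_of_degree_ne_zero hdeg)
  haveI : NeZero (N : AdjoinRoot (cyclotomic N ℤ)) := ⟨Nat.cast_ne_zero.2 hN.ne'⟩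
  have hη : IsPrimitiveRoot (AdjoinRoot.root (cyclotomic N ℤ)) N := by
    rw [← isRoot_cyclotomic_iff, ← map_cyclotomic N (AdjoinRoot.of (cyclotomic N ℤ))]
    exact AdjoinRoot.isRoot_root _
  obtain ⟨k⟩ := exists_kit_domain hℓ hη
  obtain ⟨x, hx⟩ := hR (cyclotomic N R) (cyclotomic.monic N R) (by
    rw [natDegree_cyclotomic]; exact Nat.totient_pos.2 hN)
  exact ⟨k.map (AdjoinRoot.lift (Int.castRingHom R) x (by rw [← eval_map, map_cyclotomic]; exact hx))⟩

end Groth.Agent.AICVanishLib
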