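import Groth.Agent.AICCover.Ring
import Groth.Agent.GabberConstLib.Bridge
import Mathlib

/-!
# Local rings of rings with roots are strictly henselian
-/

set_option autoImplicit false
set_option linter.style.haveILetI false

universe u

open Polynomial CategoryTheory AlgebraicGeometry

noncomputable section

namespace Groth.Agent.AICVanishLib

variable {R : Type u} [CommRing R]

theorem monicRoot_of_surjective {S : Type u} [CommRing S] (φ : R →+* S) (hφ : Function.Surjective φ)
    (h : AICCover.MonicRoot R) : AICCover.MonicRoot S := by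
  intro p hp hdeg
  rcases subsingleton_or_nontrivial S with _ | _
  · exact ⟨0, Subsingleton.elim _ _⟩
  obtain ⟨q, hq, hqd, hqm⟩ := lifts_and_degree_eq_and_monic ((mem_lifts p).2 (map_surjective φ hφ p)) hp
  obtain ⟨r, hr⟩ := h q hqm (by rw [natDegree_eq_of_degree_eq hqd]; exact hdeg)
  refine ⟨φ r, ?_⟩
  rw [IsRoot, ← hq, Polynomial.eval_map, Polynomial.eval₂_at_apply, hr, map_zero]

theorem exists_eq_prod_X_sub_C (h : AICCover.MonicRoot R) (p : R[X]) (hp : p.Monic) :
    ∃ s : Multiset R, p = (s.map fun a => X - C a).prod := by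
  rcases subsingleton_or_nontrivial R with _ | _
  · exact ⟨0, Subsingleton.elim _ _⟩
  induction hn : p.natDegree generalizing p with
  | zero => exact ⟨0, by rw [hp.natDegree_eq_zero.1 hn]; simp⟩
  | succ n ih =>
    obtain ⟨r, hr⟩ := h p hp (by omega)
    obtain ⟨q, hq⟩ := dvd_iff_isRoot.2 hr
    have hqm : q.Monic := (monic_X_sub_C r).of_mul_monic_left (hq ▸ hp)
    obtain ⟨s, hs⟩ := ih q hqm (by
      have := congrArg natDegree hq
      rw [Monic.natDegree_mul (monic_X_sub_C r) hqm, natDegree_X_sub_C, hn] at this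
      omega)
    exact ⟨r ::ₘ s, by rw [Multiset.map_cons, Multiset.prod_cons, ← hs, ← hq]⟩

theorem henselianLocalRing_of_monicRoot [IsLocalRing R] (h : AICCover.MonicRoot R) : HenselianLocalRing R where
  is_henselian f hf a₀ hfa _ := by
    obtain ⟨s, rfl⟩ := exists_eq_prod_X_sub_C h f hf
    rw [eval_multiset_prod, Multiset.map_map] at hfa
    obtain ⟨b, hb, hbm⟩ := (IsLocalRing.maximalIdeal.isMaximal R).isPrime.multiset_prod_mem_iff_exists_mem _ |>.1 hfa
    obtain ⟨a, ha, rfl⟩ := Multiset.mem_map.1 hb
    refine ⟨a, ?_, ?_⟩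
    · rw [IsRoot, eval_multiset_prod, Multiset.map_map]
      exact Multiset.prod_eq_zero (Multiset.mem_map.2 ⟨a, ha, by simp⟩)
    · simp only [Function.comp_apply, eval_sub, eval_X, eval_C] at hbm
      rw [← neg_sub]; exact neg_mem hbm

theorem isStrictlyHenselian_of_monicRoot [IsLocalRing R] (h : AICCover.MonicRoot R) :
    EtCoh.IsStrictlyHenselianLocalRing R := by
  refine ⟨henselianLocalRing_of_monicRoot h, ?_⟩
  haveI := (monicRoot_of_surjective (IsLocalRing.residue R) IsLocalRing.residue_surjective h).isAlgClosed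
  infer_instance

theorem isStrictlyHenselian_stalk {R : CommRingCat.{u}} (h : AICCover.MonicRoot R) (p : PrimeSpectrum R) :
    EtCoh.IsStrictlyHenselianLocalRing ((Spec R).presheaf.stalk p) := by
  haveI : IsLocalRing ((Spec.structureSheaf R).presheaf.stalk p) := (inferInstance : IsLocalRing ((Spec R).presheaf.stalk (show ↥(Spec R) from p)))
  exact isStrictlyHenselian_of_monicRoot (R := (Spec.structureSheaf R).presheaf.stalk p) (h.of_isLocalization p.asIdeal.primeCompl)

end Groth.Agent.AICVanishLib
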