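import Groth.Agent.GabberConstLib.Spaces

/-!
# First cohomology of constant sheaves when locally constant functions split

If every locally constant function on the intersection of two closed subsets is a difference of
locally constant functions on the two subsets, constant sheaves have no higher cohomology.
-/

set_option autoImplicit false
set_option backward.isDefEq.respectTransparency false
set_option linter.style.haveILetI false
set_option linter.unusedSectionVars false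
set_option synthInstance.maxHeartbeats 400000
set_option maxHeartbeats 800000

universe u

open CategoryTheory Limits Opposite TopologicalSpace CategoryTheory.Abelian

noncomputable section

namespace Groth.Agent.AICVanishLib

open CohBase TopDescent GabberConstLib

variable {T : TopCat.{u}}

section Union

variable (F : CohTop.Ab T) {Z₁ Z₂ : Set T} (h₁ : IsClosed Z₁) (h₂ : IsClosed Z₂)

/-- A first cohomology class killed on two closed subsets is killed on their union, if sections on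
the intersection are sums of restrictions of sections on the two subsets. -/
theorem eq_zero_of_union_one
    (hy : ∀ y : Sec (P F (Z₁ ∩ Z₂)) (⊤ : Opens T), ∃ y₁ y₂,
      y = secHom _ _ ⊤ (r F h₁ (h₁.inter h₂) Set.inter_subset_left) y₁ +
        secHom _ _ ⊤ (r F h₂ (h₁.inter h₂) Set.inter_subset_right) y₂)
    (ξ : HU (⊤ : Opens T) (P F (Z₁ ∪ Z₂)) 1)
    (e₁ : hmap ⊤ (r F (h₁.union h₂) h₁ Set.subset_union_left) 1 ξ = 0)
    (e₂ : hmap ⊤ (r F (h₁.union h₂) h₂ Set.subset_union_right) 1 ξ = 0) : ξ = 0 := by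
  haveI := mono_φ F h₁ h₂
  haveI := epi_φ F h₁ h₂
  haveI : IsIso (φ F h₁ h₂) := isIso_of_mono_of_epi _
  haveI hepi : ∀ {Z Z' : Set T} (hZ : IsClosed Z) (hZ' : IsClosed Z') (h : Z' ⊆ Z), Epi (r F hZ hZ' h) :=
    fun hZ hZ' h => by
      haveI := epi_η F hZ'
      exact epi_of_epi_fac (η_r F hZ hZ' h)
  let S₁ := ShortComplex.mk _ _ (kernel.condition (r F (h₁.union h₂) h₂ Set.subset_union_right))
  let S₂ := ShortComplex.mk _ _ (kernel.condition (r F h₁ (h₁.inter h₂) Set.inter_subset_left))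
  haveI : Epi S₁.g := hepi (h₁.union h₂) h₂ Set.subset_union_right
  haveI : Epi S₂.g := hepi h₁ (h₁.inter h₂) Set.inter_subset_left
  have hS₁ : S₁.ShortExact := { exact := ShortComplex.exact_of_f_is_kernel S₁ (kernelIsKernel _) }
  have hS₂ : S₂.ShortExact := { exact := ShortComplex.exact_of_f_is_kernel S₂ (kernelIsKernel _) }
  let f : S₁ ⟶ S₂ :=
    { τ₁ := φ F h₁ h₂
      τ₂ := r F (h₁.union h₂) h₁ Set.subset_union_left
      τ₃ := r F h₂ (h₁.inter h₂) Set.inter_subset_right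
      comm₁₂ := φ_ι F h₁ h₂
      comm₂₃ := (r_r F (h₁.union h₂) h₁ (h₁.inter h₂) Set.subset_union_left Set.inter_subset_left).trans
        (r_r F (h₁.union h₂) h₂ (h₁.inter h₂) Set.subset_union_right Set.inter_subset_right).symm }
  have hnat := ShortComplex.ShortExact.extClass_naturality hS₁ hS₂ f
  rw [hmap_apply] at e₁ e₂
  obtain ⟨k, hk⟩ := Ext.covariant_sequence_exact₂ _ hS₁ ξ e₂
  have hk' : (k.comp (Ext.mk₀ (φ F h₁ h₂)) (add_zero 1)).comp (Ext.mk₀ S₂.f) (add_zero 1) = 0 := by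
    rw [Ext.comp_assoc_of_second_deg_zero, Ext.mk₀_comp_mk₀, φ_ι, ← Ext.mk₀_comp_mk₀,
      ← Ext.comp_assoc_of_second_deg_zero, hk, e₁]
  obtain ⟨y, hy'⟩ := Ext.covariant_sequence_exact₁ _ hS₂ _ hk' (rfl : 0 + 1 = 1)
  obtain ⟨y₁, y₂, hsum⟩ := hy (H0Equiv ⊤ _ y)
  have hy2 : y = hmap ⊤ S₂.g 0 ((H0Equiv ⊤ _).symm y₁) + hmap ⊤ f.τ₃ 0 ((H0Equiv ⊤ _).symm y₂) := by
    apply (H0Equiv ⊤ _).injective
    rw [map_add, H0Equiv_hmap, H0Equiv_hmap, AddEquiv.apply_symm_apply, AddEquiv.apply_symm_apply]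
    exact hsum
  let z := (H0Equiv ⊤ _).symm y₂
  have hk2 : k.comp (Ext.mk₀ (φ F h₁ h₂)) (add_zero 1) =
      (z.comp hS₁.extClass (zero_add 1)).comp (Ext.mk₀ (φ F h₁ h₂)) (add_zero 1) := by
    rw [← hy', hy2, Ext.add_comp, hmap_apply, hmap_apply, Ext.comp_assoc_of_second_deg_zero,
      Ext.comp_assoc_of_second_deg_zero, hS₂.comp_extClass, Ext.comp_zero, zero_add,
      Ext.comp_assoc_of_third_deg_zero]
    show _ = z.comp (hS₁.extClass.comp (Ext.mk₀ f.τ₁) (add_zero 1)) (zero_add 1)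
    rw [hnat]
  have hk0 : k = z.comp hS₁.extClass (zero_add 1) := by
    have := congrArg (fun w => Ext.comp w (Ext.mk₀ (inv (φ F h₁ h₂))) (add_zero 1)) hk2
    simpa [Ext.comp_assoc_of_second_deg_zero] using this
  rw [← hk, hk0, Ext.comp_assoc_of_third_deg_zero, hS₁.extClass_comp, Ext.comp_zero]

end Union

section Zorn

variable (F : CohTop.Ab T) [CompactSpace T] [QuasiSeparatedSpace T] [PrespectralSpace T]

/-- Vanishing in degree one on all closed subsets. -/
theorem subsingleton_HU_one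
    (hy : ∀ (Z₁ Z₂ : Set T) (h₁ : IsClosed Z₁) (h₂ : IsClosed Z₂) (y : Sec (P F (Z₁ ∩ Z₂)) (⊤ : Opens T)),
      ∃ y₁ y₂, y = secHom _ _ ⊤ (r F h₁ (h₁.inter h₂) Set.inter_subset_left) y₁ +
        secHom _ _ ⊤ (r F h₂ (h₁.inter h₂) Set.inter_subset_right) y₂)
    (hirr : ∀ Z : Set T, IsClosed Z → IsPreirreducible Z → Subsingleton (HU (⊤ : Opens T) (P F Z) 1))
    (Z₀ : Set T) (hZ₀ : IsClosed Z₀) : Subsingleton (HU (⊤ : Opens T) (P F Z₀) 1) := by
  refine subsingleton_of_forall_eq 0 fun ξ => by_contra fun hξ => ?_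
  let S : Set (Set T) := {Z | ∃ (hZ : IsClosed Z) (h : Z ⊆ Z₀), hmap ⊤ (r F hZ₀ hZ h) 1 ξ ≠ 0}
  have hmem : Z₀ ∈ S := ⟨hZ₀, le_rfl, by rw [r_self, hmap_apply, Ext.comp_mk₀_id]; exact hξ⟩
  have hz : ∀ c ⊆ S, IsChain (· ⊆ ·) c → c.Nonempty → ∃ lb ∈ S, ∀ s ∈ c, lb ⊆ s := by
    intro c hcS hchain hne
    have hcl : ∀ Z ∈ c, IsClosed Z := fun Z hZ => (hcS hZ).1
    refine ⟨⋂₀ c, ⟨isClosed_sInter hcl, (Set.sInter_subset_of_mem hne.choose_spec).trans (hcS hne.choose_spec).2.1,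
      fun h0 => ?_⟩, fun Z hZ => Set.sInter_subset_of_mem hZ⟩
    obtain ⟨Z, hZ, h⟩ := exists_eq_zero F c hcl hchain hne 1 hZ₀ (fun Z hZ => (hcS hZ).2.1) ξ h0
    exact (hcS hZ).2.2 h
  obtain ⟨M, -, hM⟩ := zorn_superset_nonempty S hz Z₀ hmem
  obtain ⟨hMc, hM₀, hMξ⟩ := hM.prop
  by_cases hirrM : IsPreirreducible M
  · exact hMξ (@Subsingleton.elim _ (hirr M hMc hirrM) _ _)
  · rw [isPreirreducible_iff_isClosed_union_isClosed] at hirrM
    simp only [not_forall, not_or, exists_prop] at hirrM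
    obtain ⟨A, B, hA, hB, hsub, hMA, hMB⟩ := hirrM
    have e : M = (M ∩ A) ∪ (M ∩ B) := by rw [← Set.inter_union_distrib_left, Set.inter_eq_left.2 hsub]
    have hsmall : ∀ A' : Set T, IsClosed A' → ¬ M ⊆ A' → ∀ (h : IsClosed (M ∩ A')),
        hmap ⊤ (r F hZ₀ h (Set.inter_subset_left.trans hM₀)) 1 ξ = 0 := fun A' _ hMA' h => by
      by_contra hne0
      exact hMA' (fun x hx => (hM.le_of_le (y := M ∩ A') ⟨h, _, hne0⟩ Set.inter_subset_left hx).2)
    have hcomb : ∀ (N : Set T) (hN : IsClosed N) (hN₀ : N ⊆ Z₀) (_ : N = (M ∩ A) ∪ (M ∩ B)),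
        hmap ⊤ (r F hZ₀ hN hN₀) 1 ξ = 0 := by
      rintro N hN hN₀ rfl
      refine eq_zero_of_union_one F (hMc.inter hA) (hMc.inter hB)
        (hy _ _ (hMc.inter hA) (hMc.inter hB)) _ ?_ ?_
      · rw [← hsmall A hA hMA (hMc.inter hA), ← r_r F hZ₀ hN (hMc.inter hA) hN₀ Set.subset_union_left]
        simp only [hmap_apply, ← Ext.mk₀_comp_mk₀]
        exact Ext.comp_assoc_of_second_deg_zero _ _ _ _
      · rw [← hsmall B hB hMB (hMc.inter hB), ← r_r F hZ₀ hN (hMc.inter hB) hN₀ Set.subset_union_right]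
        simp only [hmap_apply, ← Ext.mk₀_comp_mk₀]
        exact Ext.comp_assoc_of_second_deg_zero _ _ _ _
    exact hMξ (hcomb M hMc hM₀ e)

end Zorn

section Values

variable (A : Type u) [AddCommGroup A]

/-- The image of a constant on a restriction to a closed subset. -/
abbrev cst (Z : Set T) (V : Opens T) (a : A) : Sec (P (CohTop.const T A) Z) V :=
  secHom _ _ V (η (CohTop.const T A) Z) (CechOpenLib.cSec A V a)

variable {A} {Z : Set T}

theorem cst_res {V W : Opens T} (h : W ≤ V) (a : A) :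
    res (P (CohTop.const T A) Z).obj h (cst A Z V a) = cst A Z W a := by
  rw [← secHom_res, CechOpenLib.cSec_res]

theorem cst_sub (V : Opens T) (a b : A) : CechOpenLib.cSec A V (a - b) = CechOpenLib.cSec A V a - CechOpenLib.cSec A V b :=
  map_sub ((toSheafify (Opens.grothendieckTopology T) (CechOpenLib.cPre T A)).app (op V)).hom a b

theorem cst_eq (hZ : IsClosed Z) {V : Opens T} {x : T} (hxV : x ∈ V) (hxZ : x ∈ Z) {a b : A}
    (h : cst A Z V a = cst A Z V b) : a = b := by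
  obtain ⟨V', hV', hxV', h0⟩ := η_eq_zero (CohTop.const T A) hZ
    (CechOpenLib.cSec A V a - CechOpenLib.cSec A V b) (by rw [map_sub, sub_eq_zero]; exact h) hxV hxZ
  rw [map_sub, sub_eq_zero, CechOpenLib.cSec_res, CechOpenLib.cSec_res] at h0
  exact CechOpenLib.cSec_injective A hxV' h0

/-- A section on a closed subset has the given values. -/
def HasValues (s : Sec (P (CohTop.const T A) Z) (⊤ : Opens T)) (f : Z → A) : Prop :=
  ∀ x : Z, ∃ V : Opens T, (x : T) ∈ V ∧ res (P (CohTop.const T A) Z).obj (le_top : V ≤ ⊤) s = cst A Z V (f x)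

theorem HasValues.ext (hZ : IsClosed Z) {s s' : Sec (P (CohTop.const T A) Z) (⊤ : Opens T)} {f : Z → A}
    (h : HasValues s f) (h' : HasValues s' f) : s = s' := by
  refine sub_eq_zero.1 (eq_zero_of_locally _ fun x hx => ?_)
  by_cases hxZ : x ∈ Z
  · obtain ⟨V, hxV, hV⟩ := h ⟨x, hxZ⟩
    obtain ⟨V', hxV', hV'⟩ := h' ⟨x, hxZ⟩
    refine ⟨V ⊓ V', le_top, ⟨hxV, hxV'⟩, ?_⟩
    rw [map_sub, ← res_res' (le_top : V ≤ ⊤) inf_le_left, ← res_res' (le_top : V' ≤ ⊤) inf_le_right (s := s'),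
      hV, hV', cst_res, cst_res, sub_self]
  · exact push_zero_near (CohTop.const T A) hZ _ hx hxZ

theorem exists_hasValues (hZ : IsClosed Z) (s : Sec (P (CohTop.const T A) Z) (⊤ : Opens T)) :
    ∃ f : LocallyConstant Z A, HasValues s f := by
  have hex : ∀ x : Z, ∃ (a : A) (V : Opens T), (x : T) ∈ V ∧
      res (P (CohTop.const T A) Z).obj (le_top : V ≤ ⊤) s = cst A Z V a := fun x => by
    obtain ⟨V, hV, hxV, c, hc⟩ := η_surjective (CohTop.const T A) hZ s (trivial : (x : T) ∈ (⊤ : Opens T))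
    obtain ⟨W, j, ⟨a, ha⟩, hxW⟩ := Presheaf.imageSieve_mem (Opens.grothendieckTopology T)
      (toSheafify (Opens.grothendieckTopology T) (CechOpenLib.cPre T A)) c (x : T) hxV
    refine ⟨a, W, hxW, ?_⟩
    rw [← res_res' hV (leOfHom j), ← hc, ← secHom_res]
    exact congrArg _ ha.symm
  choose f V hxV hV using hex
  refine ⟨⟨f, IsLocallyConstant.iff_exists_open _ |>.2 fun x =>
    ⟨Subtype.val ⁻¹' (V x : Set T), (V x).isOpen.preimage continuous_subtype_val, hxV x, fun y hy => ?_⟩⟩,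
    fun x => ⟨V x, hxV x, hV x⟩⟩
  refine cst_eq hZ (V := V x ⊓ V y) ⟨hy, hxV y⟩ y.2 ?_
  rw [← cst_res (inf_le_right : V x ⊓ V y ≤ V y), ← cst_res (inf_le_left : V x ⊓ V y ≤ V x), ← hV, ← hV,
    res_res', res_res']

theorem exists_section (hZ : IsClosed Z) (f : LocallyConstant Z A) :
    ∃ s : Sec (P (CohTop.const T A) Z) (⊤ : Opens T), HasValues s f := by
  have hex : ∀ x : Z, ∃ V : Opens T, (x : T) ∈ V ∧ ∀ y : Z, (y : T) ∈ V → f y = f x := fun x => by
    obtain ⟨U, hU, hxU, h⟩ := f.isLocallyConstant.exists_open x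
    obtain ⟨V, hV, rfl⟩ := isOpen_induced_iff.1 hU
    exact ⟨⟨V, hV⟩, hxU, fun y hy => h y hy⟩
  choose V hxV hV using hex
  let W : Option Z → Opens T := fun o => o.elim ⟨Zᶜ, hZ.isOpen_compl⟩ V
  let t : ∀ o, Sec (P (CohTop.const T A) Z) (W o) := fun o => match o with
    | none => 0
    | some x => cst A Z (V x) (f x)
  have hzero : ∀ (U : Opens T) (_ : U ≤ W none) (c : Sec (P (CohTop.const T A) Z) U), c = 0 := fun U hU c =>
    push_sec_eq_zero _ (Set.disjoint_left.2 fun y hy => hU hy) c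
  have hcompat : ∀ a b, res (P (CohTop.const T A) Z).obj (inf_le_left : W a ⊓ W b ≤ W a) (t a) =
      res (P (CohTop.const T A) Z).obj (inf_le_right : W a ⊓ W b ≤ W b) (t b) := by
    rintro (_ | a) (_ | b)
    · rfl
    · exact (hzero _ inf_le_left _).trans (hzero _ inf_le_left _).symm
    · exact (hzero _ inf_le_right _).trans (hzero _ inf_le_right _).symm
    · refine sub_eq_zero.1 (eq_zero_of_locally _ fun x hx => ?_)
      by_cases hxZ : x ∈ Z
      · refine ⟨_, le_rfl, hx, ?_⟩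
        simp only [t, map_sub]
        rw [← hV a ⟨x, hxZ⟩ hx.1, ← hV b ⟨x, hxZ⟩ hx.2]
        erw [cst_res, cst_res, cst_res, cst_res]
        exact sub_self _
      · exact push_zero_near (CohTop.const T A) hZ _ hx hxZ
  classical
  obtain ⟨s, hs⟩ := sheaf_glue (P (CohTop.const T A) Z) (κ := Option Z) (V := W) (W := ⊤) (fun _ => le_top)
    (fun x _ => Opens.mem_iSup.2 (if hx : x ∈ Z then ⟨some ⟨x, hx⟩, hxV _⟩ else ⟨none, hx⟩)) t hcompat
  exact ⟨s, fun x => ⟨V x, hxV x, hs (some x)⟩⟩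

theorem HasValues.add {s s' : Sec (P (CohTop.const T A) Z) (⊤ : Opens T)} {f g : Z → A}
    (h : HasValues s f) (h' : HasValues s' g) : HasValues (s + s') (f + g) := fun x => by
  obtain ⟨V, hxV, hV⟩ := h x
  obtain ⟨V', hxV', hV'⟩ := h' x
  refine ⟨V ⊓ V', ⟨hxV, hxV'⟩, ?_⟩
  rw [map_add, ← res_res' (le_top : V ≤ ⊤) inf_le_left, ← res_res' (le_top : V' ≤ ⊤) inf_le_right (s := s'),
    hV, hV', cst_res, cst_res, ← map_add]
  exact congrArg _ (map_add ((toSheafify (Opens.grothendieckTopology T) (CechOpenLib.cPre T A)).app (op (V ⊓ V'))).hom _ _).symm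

theorem HasValues.restrict (hZ : IsClosed Z) {Z' : Set T} (hZ' : IsClosed Z') (hle : Z' ⊆ Z)
    {s : Sec (P (CohTop.const T A) Z) (⊤ : Opens T)} {f : Z → A} (h : HasValues s f) :
    HasValues (secHom _ _ ⊤ (r (CohTop.const T A) hZ hZ' hle) s) (f ∘ Set.inclusion hle) := fun x => by
  obtain ⟨V, hxV, hV⟩ := h (Set.inclusion hle x)
  refine ⟨V, hxV, ?_⟩
  rw [← secHom_res, hV]
  exact r_app _ hZ hZ' hle V _

/-- If locally constant functions split, constant sheaves have no higher cohomology. -/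
theorem subsingleton_H_const_of_split [CompactSpace T] [QuasiSeparatedSpace T] [PrespectralSpace T]
    (hsplit : ∀ (Z₁ Z₂ : Set T), IsClosed Z₁ → IsClosed Z₂ → ∀ c : LocallyConstant ↥(Z₁ ∩ Z₂) A,
      ∃ (b₁ : LocallyConstant Z₁ A) (b₂ : LocallyConstant Z₂ A),
        ∀ p : ↥(Z₁ ∩ Z₂), c p = b₂ ⟨p.1, p.2.2⟩ - b₁ ⟨p.1, p.2.1⟩) (q : ℕ) :
    Subsingleton (CohTop.H (CohTop.const T A) (q + 1)) := by
  have hirr : ∀ Z : Set T, IsClosed Z → IsPreirreducible Z → ∀ q : ℕ,
      Subsingleton (HU (⊤ : Opens T) (P (CohTop.const T A) Z) (q + 1)) :=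
    fun Z hZ hi q => subsingleton_P_irreducible hZ hi A q
  have hy : ∀ (Z₁ Z₂ : Set T) (h₁ : IsClosed Z₁) (h₂ : IsClosed Z₂)
      (y : Sec (P (CohTop.const T A) (Z₁ ∩ Z₂)) (⊤ : Opens T)),
      ∃ y₁ y₂, y = secHom _ _ ⊤ (r (CohTop.const T A) h₁ (h₁.inter h₂) Set.inter_subset_left) y₁ +
        secHom _ _ ⊤ (r (CohTop.const T A) h₂ (h₁.inter h₂) Set.inter_subset_right) y₂ := by
    intro Z₁ Z₂ h₁ h₂ y
    obtain ⟨c, hc⟩ := exists_hasValues (h₁.inter h₂) y
    obtain ⟨b₁, b₂, hb⟩ := hsplit Z₁ Z₂ h₁ h₂ c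
    obtain ⟨y₁, hy₁⟩ := exists_section h₁ (-b₁)
    obtain ⟨y₂, hy₂⟩ := exists_section h₂ b₂
    refine ⟨y₁, y₂, hc.ext (h₁.inter h₂) ?_⟩
    have h := (hy₁.restrict h₁ (h₁.inter h₂) Set.inter_subset_left).add
      (hy₂.restrict h₂ (h₁.inter h₂) Set.inter_subset_right)
    convert h using 1
    funext p
    rw [hb p]
    show _ = (-b₁ _ : A) + b₂ _
    rw [neg_add_eq_sub]
  have h := subsingleton_HU_closed (CohTop.const T A)
    (fun Z hZ => subsingleton_HU_one (CohTop.const T A) hy (fun Z hZ hi => hirr Z hZ hi 0) Z hZ)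
    hirr q Set.univ isClosed_univ
  obtain ⟨e⟩ := nonempty_H_P_equiv (T := T) isClosed_univ A (q + 1)
  obtain ⟨e'⟩ := nonempty_H_homeo_equiv (Y := TopCat.of (Set.univ : Set T)) (T := T) (Homeomorph.Set.univ T) A (q + 1)
  haveI := h
  exact (e'.trans e.symm).subsingleton

end Values

end Groth.Agent.AICVanishLib
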