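import Groth.Agent.AICVanishLib.Kit

/-!
# Splitting locally constant functions on intersections of closed sets

If every monic polynomial over `R` has a root, a locally constant function on the intersection of
two closed subsets of `Spec R`, with values in a finite abelian group, is a difference of locally
constant functions on the two subsets.
-/

set_option autoImplicit false
set_option linter.style.haveILetI false

universe u

open Polynomial Finset PrimeSpectrum

noncomputable section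

namespace Groth.Agent.AICVanishLib

variable {R : Type u} [CommRing R]

/-- If a product of linear factors with pairwise unit differences vanishes along a closed set,
the vanishing factor is locally constant. -/
theorem exists_locallyConstant_root (I : Ideal R) {α : Type} [Fintype α] [DecidableEq α] (ρ : R) (f : α → R)
    (hf : ∏ a, (ρ - f a) ∈ I) (hu : ∀ a b, a ≠ b → IsUnit (f a - f b)) :
    ∃ k : LocallyConstant (zeroLocus (I : Set R)) α, ∀ p, ρ - f (k p) ∈ p.1.asIdeal := by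
  have hex : ∀ p : zeroLocus (I : Set R), ∃ a, ρ - f a ∈ p.1.asIdeal := fun p => by
    obtain ⟨a, -, ha⟩ := (p.1.isPrime.prod_mem_iff).1 (p.2 hf)
    exact ⟨a, ha⟩
  choose k hk using hex
  have huniq : ∀ (p : zeroLocus (I : Set R)) (a : α), ρ - f a ∈ p.1.asIdeal → k p = a := fun p a ha => by
    by_contra h
    exact p.1.isPrime.ne_top (Ideal.eq_top_of_isUnit_mem _
      (by simpa using sub_mem ha (hk p)) (hu _ _ h))
  refine ⟨⟨k, IsLocallyConstant.iff_isOpen_fiber.2 fun a => ?_⟩, hk⟩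
  have h : k ⁻¹' {a} = (Subtype.val ⁻¹' ⋃ b ∈ univ.erase a, zeroLocus {ρ - f b})ᶜ := by
    ext p
    simp only [Set.mem_preimage, Set.mem_singleton_iff, Set.mem_compl_iff, Set.mem_iUnion, mem_erase, mem_univ,
      and_true, exists_prop, mem_zeroLocus, Set.singleton_subset_iff, SetLike.mem_coe, not_exists, not_and]
    exact ⟨fun h b hb hb' => hb ((huniq p b hb').symm.trans h), fun h => by_contra fun hne => h _ hne (hk p)⟩
  rw [h]
  exact ((Set.Finite.isClosed_biUnion (finite_toSet _) fun b _ => isClosed_zeroLocus _).preimage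
    continuous_subtype_val).isOpen_compl

theorem mem_of_idempotent {K : Ideal R} {e c : R} (he : e * e - e ∈ K)
    (h₁ : c ∈ K ⊔ Ideal.span {e}) (h₂ : c ∈ K ⊔ Ideal.span {1 - e}) : c ∈ K := by
  obtain ⟨a, ha, b, hb, hab⟩ := Submodule.mem_sup.1 h₁
  obtain ⟨a', ha', b', hb', hab'⟩ := Submodule.mem_sup.1 h₂
  obtain ⟨r, rfl⟩ := Ideal.mem_span_singleton'.1 hb
  obtain ⟨r', rfl⟩ := Ideal.mem_span_singleton'.1 hb'
  have h : c = c * e + c * (1 - e) := by ring
  rw [h, ← hab']
  nth_rewrite 2 [hab']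
  rw [← hab]
  have h' : (a' + r' * (1 - e)) * e + (a + r * e) * (1 - e) =
      a' * e + a * (1 - e) - (r + r') * (e * e - e) := by ring
  rw [h']
  exact sub_mem (add_mem (K.mul_mem_right _ ha') (K.mul_mem_right _ ha)) (K.mul_mem_left _ he)

section Kit

variable {ℓ : ℕ}

theorem geo_periodic (k : Kit R ℓ) (n : ℕ) : geo k.ζ n = geo k.ζ (n % ℓ) := by
  have h : ∀ t, geo k.ζ (ℓ * t) = 0 := fun t => by
    induction t with
    | zero => simp [geo]
    | succ t ih => rw [Nat.mul_succ, geo_add, ih, k.geo_eq, mul_zero, add_zero]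
  conv_lhs => rw [← Nat.div_add_mod n ℓ]
  rw [geo_add, h, zero_add, pow_mul, k.pow_eq, one_pow, one_mul]

variable [NeZero ℓ]

/-- The geometric sums indexed by residues. -/
def Kit.j (k : Kit R ℓ) (a : ZMod ℓ) : R := geo k.ζ a.val

/-- The powers of `ζ` indexed by residues. -/
def Kit.z (k : Kit R ℓ) (a : ZMod ℓ) : R := k.ζ ^ a.val

theorem Kit.j_natCast (k : Kit R ℓ) (n : ℕ) : k.j n = geo k.ζ n := by
  rw [Kit.j, ZMod.val_natCast, ← geo_periodic]

theorem Kit.j_add (k : Kit R ℓ) (a b : ZMod ℓ) : k.j (a + b) = k.j a + k.z a * k.j b := by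
  conv_lhs => rw [← ZMod.natCast_zmod_val a, ← ZMod.natCast_zmod_val b, ← Nat.cast_add, Kit.j_natCast, geo_add]
  rfl

theorem Kit.mul_j (k : Kit R ℓ) (a : ZMod ℓ) : (k.ζ - 1) * k.j a = k.z a - 1 := mul_geo _ _

theorem Kit.isUnit_j_sub [Fact ℓ.Prime] (k : Kit R ℓ) (a b : ZMod ℓ) (h : a ≠ b) : IsUnit (k.j a - k.j b) := by
  have e : k.j a - k.j b = k.z b * k.j (a - b) := by
    rw [sub_eq_iff_eq_add', ← Kit.j_add, add_sub_cancel]
  rw [e]
  refine IsUnit.mul ((IsUnit.of_pow_eq_one k.pow_eq (NeZero.ne ℓ)).pow _) (k.isUnit_geo _ ?_)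
  refine Nat.Coprime.symm (((Fact.out : ℓ.Prime).coprime_iff_not_dvd).2 fun hd => h ?_)
  rw [← sub_eq_zero, ← ZMod.natCast_zmod_val (a - b)]
  exact (ZMod.natCast_eq_zero_iff _ _).2 hd

/-- Over a ring with roots, an idempotent modulo `I ⊔ J` gives locally constant functions on
`V(I)` and `V(J)` whose difference is a nonzero constant multiple of its indicator. -/
theorem exists_sub_eq_indicator [Fact ℓ.Prime] (hR : ∀ f : R[X], f.Monic → 0 < f.natDegree → ∃ r : R, f.eval r = 0)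
    (k : Kit R ℓ) (I J : Ideal R) (e : R) (he : e * e - e ∈ I ⊔ J) :
    ∃ (kA : LocallyConstant (zeroLocus (I : Set R)) (ZMod ℓ)) (kB : LocallyConstant (zeroLocus (J : Set R)) (ZMod ℓ)),
      ∀ (p : PrimeSpectrum R) (hA : p ∈ zeroLocus (I : Set R)) (hB : p ∈ zeroLocus (J : Set R)),
        (e ∈ p.asIdeal → kB ⟨p, hB⟩ = kA ⟨p, hA⟩) ∧
        (e ∉ p.asIdeal → kB ⟨p, hB⟩ = kA ⟨p, hA⟩ + (k.M : ZMod ℓ)) := by
  rcases subsingleton_or_nontrivial R with _ | _
  · exact ⟨LocallyConstant.const _ 0, LocallyConstant.const _ 0, fun p _ _ =>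
      absurd (Subsingleton.elim (1 : R) 0 ▸ Submodule.zero_mem p.asIdeal) p.asIdeal.one_notMem⟩
  -- the mixed polynomial and its root
  let g : R[X] := k.h₀ + C e * (k.h₁ - k.h₀)
  have hℓ : 0 < ℓ := Nat.pos_of_ne_zero (NeZero.ne ℓ)
  have hdeg : (C e * (k.h₁ - k.h₀)).degree < k.h₀.degree := by
    refine lt_of_le_of_lt (degree_mul_le _ _) (lt_of_le_of_lt (add_le_add degree_C_le le_rfl) ?_)
    rw [zero_add]
    refine lt_of_lt_of_le (degree_sub_lt_left ?_ k.monic₁.ne_zero ?_) (le_of_eq ?_)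
    · rw [degree_eq_natDegree k.monic₁.ne_zero, degree_eq_natDegree k.monic₀.ne_zero, k.deg₀, k.deg₁]
    · rw [k.monic₀.leadingCoeff, k.monic₁.leadingCoeff]
    · rw [degree_eq_natDegree k.monic₁.ne_zero, degree_eq_natDegree k.monic₀.ne_zero, k.deg₀, k.deg₁]
  have hg : g.Monic := k.monic₀.add_of_left hdeg
  obtain ⟨z, hz⟩ := hR g hg (by
    rw [show g.natDegree = ℓ from (natDegree_eq_of_degree_eq (degree_add_eq_left_of_degree_lt hdeg)).trans k.deg₀]
    exact hℓ)
  have hzu : IsUnit z := by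
    have h0 : g.eval 0 = k.h₀.coeff 0 := by
      rw [← coeff_zero_eq_eval_zero, coeff_add, coeff_C_mul, coeff_sub, k.coeff_zero, sub_self, mul_zero, add_zero]
    have h1 : z ∣ g.eval z - g.eval 0 := by simpa using sub_dvd_eval_sub z 0 g
    rw [hz, zero_sub, dvd_neg, h0] at h1
    exact isUnit_of_dvd_unit h1 k.isUnit_coeff_zero
  let y : R := (-k.D * k.Q).eval z
  let x : R := e * y
  have hx : 1 + (k.ζ - 1) * x = z ^ k.M := by
    have h1 := congrArg (eval z) k.mul_eq
    have h2 := congrArg (eval z) k.sub_eq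
    simp only [eval_mul, eval_sub, eval_pow, eval_X, eval_one, eval_C] at h1 h2
    simp only [g, eval_add, eval_mul, eval_C, eval_sub] at hz
    simp only [x, y, eval_mul, eval_neg]
    linear_combination h1 + e * k.Q.eval z * h2 - k.Q.eval z * hz
  have hxu : IsUnit (1 + (k.ζ - 1) * x) := hx ▸ hzu.pow _
  -- the two families of roots
  let fA : ZMod ℓ → R := fun a => k.j a + k.z a * x
  let PA : R[X] := ∏ a, (X - C (fA a))
  let PB : R[X] := ∏ a, (X - C (k.j a))
  have hPA : PA.Monic := monic_prod_of_monic _ _ fun a _ => monic_X_sub_C _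
  have hPB : PB.Monic := monic_prod_of_monic _ _ fun a _ => monic_X_sub_C _
  have hdA : PA.natDegree = ℓ := by simp [PA]
  have hdB : PB.natDegree = ℓ := by simp [PB]
  have hxe : x ∈ Ideal.span {e} := Ideal.mem_span_singleton'.2 ⟨y, mul_comm _ _⟩
  have hxM : x - k.j (k.M : ZMod ℓ) ∈ Ideal.span {1 - e} := by
    have h1 : k.h₁.eval z ∈ Ideal.span {1 - e} := by
      refine Ideal.mem_span_singleton'.2 ⟨k.h₁.eval z - k.h₀.eval z, ?_⟩
      simp only [g, eval_add, eval_mul, eval_C, eval_sub] at hz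
      linear_combination -hz
    obtain ⟨w, hw⟩ := k.dvd
    have h2 : y - geo k.ζ k.M = k.h₁.eval z * w.eval z := by
      rw [← eval_mul, ← hw, eval_sub, eval_C]
    rw [Kit.j_natCast, show x - geo k.ζ k.M = (y - geo k.ζ k.M) + (-y) * (1 - e) by ring, h2]
    exact add_mem (Ideal.mul_mem_right _ _ h1) (Ideal.mul_mem_left _ _ (Ideal.mem_span_singleton_self _))
  have key : ∀ (S : Type u) [CommRing S] (φ : R →+* S) (c : ZMod ℓ), φ x = φ (k.j c) → ∀ a, φ (fA a) = φ (k.j (a + c)) :=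
    fun S _ φ c h a => by simp only [fA, Kit.j_add, map_add, map_mul, h]
  have hcoeff : ∀ n, (PA - PB).coeff n ∈ I ⊔ J := fun n => by
    have step : ∀ (L : Ideal R) (c : ZMod ℓ), x - k.j c ∈ L → (PA - PB).coeff n ∈ L := fun L c hL => by
      let φ := Ideal.Quotient.mk L
      have h := key _ φ c (Ideal.Quotient.eq.2 hL)
      have h' : PA.map φ = PB.map φ := by
        simp only [PA, PB, Polynomial.map_prod, Polynomial.map_sub, map_X, map_C, h]
        exact Equiv.prod_comp (Equiv.addRight c) (fun a => X - C (φ (k.j a)))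
      refine Ideal.Quotient.eq_zero_iff_mem.1 ?_
      rw [← coeff_map, Polynomial.map_sub, h', sub_self, coeff_zero]
    refine mem_of_idempotent he (step _ 0 ?_) (step _ (k.M : ZMod ℓ) (Ideal.mem_sup_right hxM))
    rw [show k.j 0 = 0 by simp [Kit.j, geo], sub_zero]
    exact Ideal.mem_sup_right hxe
  choose i hi j hj hij using fun n => Submodule.mem_sup.1 (hcoeff n)
  -- the lifted polynomial
  have hdeg' : (∑ n ∈ range ℓ, C (i n) * X ^ n).degree < PA.degree := by
    rw [degree_eq_natDegree hPA.ne_zero, hdA]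
    refine (degree_sum_le _ _).trans_lt ((Finset.sup_lt_iff (WithBot.bot_lt_coe ℓ)).2 fun n hn => ?_)
    exact (degree_C_mul_X_pow_le _ _).trans_lt (WithBot.coe_lt_coe.2 (mem_range.1 hn))
  have hdeg'' : (PA - PB).degree < PA.degree := by
    refine degree_sub_lt_left ?_ hPA.ne_zero (by rw [hPA.leadingCoeff, hPB.leadingCoeff])
    rw [degree_eq_natDegree hPA.ne_zero, degree_eq_natDegree hPB.ne_zero, hdA, hdB]
  obtain ⟨ρ, hρ⟩ := hR (PA - ∑ n ∈ range ℓ, C (i n) * X ^ n) (hPA.sub_of_left hdeg') (by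
    rw [natDegree_eq_of_degree_eq (degree_sub_eq_left_of_degree_lt hdeg'), hdA]; exact hℓ)
  simp only [eval_sub, eval_finsetSum, eval_mul, eval_C, eval_pow, eval_X, sub_eq_zero] at hρ
  have hA : PA.eval ρ ∈ I := hρ ▸ Ideal.sum_mem _ fun n _ => Ideal.mul_mem_right _ _ (hi n)
  have hd : (PA - PB).natDegree < ℓ := by
    rcases eq_or_ne (PA - PB) 0 with h | h
    · rw [h, natDegree_zero]; exact hℓ
    · rw [← hdA]; exact natDegree_lt_natDegree h hdeg''
  have hB : PB.eval ρ ∈ J := by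
    have h := eval_eq_sum_range' hd ρ
    simp only [← hij, add_mul, sum_add_distrib, eval_sub, hρ] at h
    rw [show PB.eval ρ = -∑ n ∈ range ℓ, j n * ρ ^ n by linear_combination -h]
    exact neg_mem (Ideal.sum_mem _ fun n _ => Ideal.mul_mem_right _ _ (hj n))
  simp only [PA, PB, eval_prod, eval_sub, eval_X, eval_C] at hA hB
  have hfu : ∀ a b : ZMod ℓ, a ≠ b → IsUnit (fA a - fA b) := fun a b h => by
    rw [show fA a - fA b = (k.j a - k.j b) * (1 + (k.ζ - 1) * x) by
      simp only [fA]; linear_combination (-x) * k.mul_j a + x * k.mul_j b]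
    exact (k.isUnit_j_sub a b h).mul hxu
  obtain ⟨kA, hkA⟩ := exists_locallyConstant_root I ρ fA hA hfu
  obtain ⟨kB, hkB⟩ := exists_locallyConstant_root J ρ k.j hB k.isUnit_j_sub
  refine ⟨kA, kB, fun p hpA hpB => ?_⟩
  have step : ∀ c : ZMod ℓ, x - k.j c ∈ p.asIdeal → kB ⟨p, hpB⟩ = kA ⟨p, hpA⟩ + c := fun c hc => by
    by_contra h
    refine p.isPrime.ne_top (Ideal.eq_top_of_isUnit_mem _ ?_ (k.isUnit_j_sub _ _ h))
    have h1 : fA (kA ⟨p, hpA⟩) - k.j (kA ⟨p, hpA⟩ + c) ∈ p.asIdeal := by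
      rw [Kit.j_add]
      simpa [fA, ← mul_sub] using Ideal.mul_mem_left _ (k.z (kA ⟨p, hpA⟩)) hc
    convert sub_mem (add_mem (hkA ⟨p, hpA⟩) h1) (hkB ⟨p, hpB⟩) using 1
    ring
  constructor
  · intro hep
    refine (step 0 ?_).trans (add_zero _)
    rw [show k.j 0 = 0 by simp [Kit.j, geo], sub_zero]
    exact (Ideal.span_singleton_le_iff_mem _).2 hep hxe
  · intro hep
    refine step _ ((Ideal.span_singleton_le_iff_mem _).2 ?_ hxM)
    have hle : I ⊔ J ≤ p.asIdeal := sup_le hpA hpB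
    refine (p.isPrime.mem_or_mem (?_ : e * (1 - e) ∈ p.asIdeal)).resolve_left hep
    rw [show e * (1 - e) = -(e * e - e) by ring]
    exact neg_mem (hle he)

end Kit

/-- The indicator of a clopen subset of `V(I ⊔ J)` is, modulo a prime, a difference of locally constant
functions on `V(I)` and `V(J)`. -/
theorem exists_indicator_modEq_prime (hR : ∀ f : R[X], f.Monic → 0 < f.natDegree → ∃ r : R, f.eval r = 0)
    {ℓ : ℕ} (hℓ : ℓ.Prime) (I J : Ideal R) {W : Set (zeroLocus ((I ⊔ J : Ideal R) : Set R))} (hW : IsClopen W) :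
    ∃ (kA : LocallyConstant (zeroLocus (I : Set R)) ℤ) (kB : LocallyConstant (zeroLocus (J : Set R)) ℤ),
      ∀ (p : zeroLocus ((I ⊔ J : Ideal R) : Set R)) (hA : p.1 ∈ zeroLocus (I : Set R)) (hB : p.1 ∈ zeroLocus (J : Set R)),
        (ℓ : ℤ) ∣ kB ⟨p.1, hB⟩ - kA ⟨p.1, hA⟩ - W.indicator 1 p := by
  haveI := Fact.mk hℓ
  haveI : NeZero ℓ := ⟨hℓ.ne_zero⟩
  rcases subsingleton_or_nontrivial R with _ | _
  · exact ⟨LocallyConstant.const _ 0, LocallyConstant.const _ 0, fun p _ _ =>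
      absurd (Subsingleton.elim (1 : R) 0 ▸ Submodule.zero_mem p.1.asIdeal) p.1.asIdeal.one_notMem⟩
  let φ := Ideal.Quotient.mk (I ⊔ J)
  have hφ : Topology.IsClosedEmbedding (PrimeSpectrum.comap φ) := isClosedEmbedding_comap_of_surjective _ φ Ideal.Quotient.mk_surjective
  have hr : Set.range (PrimeSpectrum.comap φ) = zeroLocus ((I ⊔ J : Ideal R) : Set R) := by
    rw [range_comap_of_surjective _ φ Ideal.Quotient.mk_surjective, Ideal.mk_ker]
  let h : PrimeSpectrum (R ⧸ (I ⊔ J)) ≃ₜ zeroLocus ((I ⊔ J : Ideal R) : Set R) :=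
    hφ.isEmbedding.toHomeomorph.trans (Homeomorph.setCongr hr)
  obtain ⟨e', he', hW'⟩ := exists_idempotent_basicOpen_eq_of_isClopen (hW.preimage h.continuous)
  obtain ⟨e, rfl⟩ := Ideal.Quotient.mk_surjective e'
  have he : e * e - e ∈ I ⊔ J := Ideal.Quotient.eq.1 (by rw [map_mul]; exact he'.eq)
  obtain ⟨k⟩ := exists_kit hR hℓ
  obtain ⟨kA, kB, hk⟩ := exists_sub_eq_indicator hR k I J e he
  have hM : (k.M : ZMod ℓ) ≠ 0 := fun h => hℓ.coprime_iff_not_dvd.1 k.coprime.symm ((ZMod.natCast_eq_zero_iff _ _).1 h)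
  refine ⟨kA.map fun a => ((k.M : ZMod ℓ)⁻¹ * a).val, kB.map fun a => ((k.M : ZMod ℓ)⁻¹ * a).val, fun p hA hB => ?_⟩
  have hmem : e ∉ p.1.asIdeal ↔ p ∈ W := by
    have hp : p = h (h.symm p) := (h.apply_symm_apply p).symm
    rw [hp]
    show φ e ∉ (h.symm p).asIdeal ↔ _
    rw [← Set.mem_preimage (f := h), hW']
    exact (mem_basicOpen _ _).symm
  rw [← ZMod.intCast_zmod_eq_zero_iff_dvd]
  simp only [LocallyConstant.map_apply, Function.comp_apply, Int.cast_sub, Int.cast_natCast, ZMod.natCast_zmod_val, ← mul_sub]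
  by_cases hp : p ∈ W
  · rw [(hk p.1 hA hB).2 (hmem.2 hp), add_sub_cancel_left, inv_mul_cancel₀ hM, Set.indicator_of_mem hp]
    simp
  · rw [(hk p.1 hA hB).1 (by_contra fun h' => hp (hmem.1 h')), sub_self, mul_zero, Set.indicator_of_notMem hp]
    simp

end Groth.Agent.AICVanishLib
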